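import Mathlib

/-!
Groups of degree `2p` with an element made of two `p`-cycles: invariant matrices, their values on
`u = 1_{Δ₀} - 1_{Δ₁}` and their Fourier transforms along the cycles.
-/

set_option autoImplicit false

noncomputable section

namespace Cfsg.Agent.W2p

open Finset ComplexConjugate

variable {p : ℕ} [Fact p.Prime]

/-- The character `t ↦ exp (2 π i h t / p)`. -/
def z (h : (ZMod p)ˣ) (t : ZMod p) : ℂ := ZMod.stdAddChar ((h : ZMod p) * t)

theorem z_add (h : (ZMod p)ˣ) (s t : ZMod p) : z h (s + t) = z h s * z h t := by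
  simp [z, mul_add, AddChar.map_add_eq_mul]

theorem z_zero (h : (ZMod p)ˣ) : z h 0 = 1 := by simp [z]

theorem z_neg (h : (ZMod p)ˣ) (t : ZMod p) : z h (-t) = conj (z h t) := by
  simp [z, AddChar.map_neg_eq_conj]

theorem sum_z (h : (ZMod p)ˣ) : ∑ t : ZMod p, z h t = 0 := by
  have h1 : (AddChar.mulShift (ZMod.stdAddChar (N := p)) (h : ZMod p)) ≠ 1 := by
    intro e
    have := DFunLike.congr_fun e 1
    simp only [AddChar.mulShift_apply, mul_one, AddChar.one_apply] at this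
    rw [← (ZMod.stdAddChar (N := p)).map_zero_eq_one] at this
    exact h.ne_zero (ZMod.injective_stdAddChar this)
  exact AddChar.sum_eq_zero_of_ne_one h1

/-- Fourier transform of a rational function. -/
def ft (h : (ZMod p)ˣ) (φ : ZMod p → ℚ) : ℂ := ∑ t, (φ t : ℂ) * z h t

/-- A rational function whose transform vanishes is constant. -/
theorem const_of_ft (h : (ZMod p)ˣ) (φ : ZMod p → ℚ) (h0 : ft h φ = 0) : ∀ t, φ t = φ 0 := by
  have hp : p.Prime := Fact.out
  set ω : ℂ := z h 1 with hω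
  have hpow : ∀ n : ℕ, z h (n : ZMod p) = ω ^ n := by
    intro n
    induction n with
    | zero => simp [z_zero]
    | succ n ih => rw [Nat.cast_succ, z_add, ih, pow_succ]
  have hprim : IsPrimitiveRoot ω p := by
    refine IsPrimitiveRoot.mk_of_lt _ hp.pos (by rw [← hpow, ZMod.natCast_self, z_zero]) ?_
    intro l hl hlp e
    rw [← hpow] at e
    have e' : (ZMod.stdAddChar ((h : ZMod p) * (l : ZMod p))) = ZMod.stdAddChar (0 : ZMod p) := by
      rw [AddChar.map_zero_eq_one]; exact e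
    have := ZMod.injective_stdAddChar e'
    rcases mul_eq_zero.1 this with h2 | h2
    · exact h.ne_zero h2
    · have := Nat.le_of_dvd hl ((ZMod.natCast_eq_zero_iff _ _).1 h2)
      omega
  let P : Polynomial ℚ := ∑ i ∈ range p, Polynomial.C (φ (i : ZMod p)) * Polynomial.X ^ i
  have haeval : Polynomial.aeval ω P = 0 := by
    rw [← h0]
    simp only [P, map_sum, map_mul, Polynomial.aeval_C, map_pow, Polynomial.aeval_X, ft]
    refine Finset.sum_bij (fun i _ => (i : ZMod p)) (fun _ _ => mem_univ _) ?_ ?_ ?_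
    · intro a ha b hb e
      have := (ZMod.natCast_eq_natCast_iff' a b p).1 e
      rwa [Nat.mod_eq_of_lt (mem_range.1 ha), Nat.mod_eq_of_lt (mem_range.1 hb)] at this
    · intro t _
      exact ⟨t.val, mem_range.2 (ZMod.val_lt t), ZMod.natCast_zmod_val t⟩
    · intro a _
      rw [hpow]
      rfl
  have hdvd : Polynomial.cyclotomic p ℚ ∣ P := by
    rw [Polynomial.cyclotomic_eq_minpoly_rat hprim hp.pos]
    exact minpoly.dvd ℚ ω haeval
  obtain ⟨Q, hQ⟩ := hdvd
  have hcoeff : ∀ n, n < p → P.coeff n = φ (n : ZMod p) := by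
    intro n hn
    simp only [P, Polynomial.finsetSum_coeff, Polynomial.coeff_C_mul, Polynomial.coeff_X_pow]
    rw [Finset.sum_eq_single n]
    · simp
    · intro b _ hb; simp [Ne.symm hb]
    · intro hn'; exact absurd (mem_range.2 hn) hn'
  have hdeg : P.degree < (p : ℕ) := by
    refine lt_of_le_of_lt (Polynomial.degree_sum_le _ _) ?_
    refine (Finset.sup_lt_iff (WithBot.bot_lt_coe _)).2 fun i hi => ?_
    refine lt_of_le_of_lt (Polynomial.degree_C_mul_X_pow_le _ _) ?_
    exact WithBot.coe_lt_coe.2 (mem_range.1 hi)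
  have hQc : Q = Polynomial.C (Q.coeff 0) := by
    by_cases hQ0 : Q = 0
    · simp [hQ0]
    refine Polynomial.eq_C_of_natDegree_le_zero ?_
    have hc0 : Polynomial.cyclotomic p ℚ ≠ 0 := Polynomial.cyclotomic_ne_zero p ℚ
    have h1 : P.natDegree = (p - 1) + Q.natDegree := by
      rw [hQ, Polynomial.natDegree_mul hc0 hQ0, Polynomial.natDegree_cyclotomic,
        Nat.totient_prime hp]
    have h2 : P.natDegree < p := by
      rcases eq_or_ne P 0 with e | e
      · rw [e]; simpa using hp.pos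
      · exact (Polynomial.natDegree_lt_iff_degree_lt e).2 hdeg
    omega
  intro t
  have key : ∀ n, n < p → φ (n : ZMod p) = Q.coeff 0 := by
    intro n hn
    rw [← hcoeff n hn, hQ, hQc, Polynomial.coeff_mul_C, Polynomial.coeff_C_zero,
      Polynomial.cyclotomic_prime, Polynomial.finsetSum_coeff]
    simp only [Polynomial.coeff_X_pow]
    rw [Finset.sum_eq_single n]
    · simp
    · intro b _ hb; simp [Ne.symm hb]
    · intro hn'; exact absurd (mem_range.2 hn) hn'
  have h3 := key t.val (ZMod.val_lt t)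
  have h4 := key 0 hp.pos
  rw [ZMod.natCast_zmod_val] at h3
  rw [Nat.cast_zero] at h4
  rw [h3, h4]

/-- Correlation of rational functions and the product of transforms. -/
theorem ft_corr (h : (ZMod p)ˣ) (φ ψ : ZMod p → ℚ) :
    ft h (fun u => ∑ t, φ t * ψ (t + u)) = conj (ft h φ) * ft h ψ := by
  simp only [ft, map_sum, map_mul, Finset.sum_mul, Rat.cast_sum, Rat.cast_mul]
  rw [Finset.sum_comm]
  refine Finset.sum_congr rfl fun t _ => ?_
  rw [Finset.mul_sum]
  refine (Equiv.sum_comp (Equiv.subRight t) _).symm.trans (Finset.sum_congr rfl fun u _ => ?_)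
  simp only [Equiv.subRight_apply, add_sub_cancel]
  rw [sub_eq_add_neg u t, z_add, z_neg, map_ratCast]
  ring

theorem ft_sub_smul (h : (ZMod p)ˣ) (φ : ZMod p → ℚ) (θ : ℚ) :
    ft h (fun t => φ t - θ * if t = 0 then 1 else 0) = ft h φ - θ := by
  simp only [ft, Rat.cast_sub, Rat.cast_mul, sub_mul, Finset.sum_sub_distrib]
  congr 1
  rw [Finset.sum_eq_single 0]
  · simp [z_zero]
  · intro b _ hb; simp [hb]
  · simp

/-! ### Invariant matrices -/

/-- Two `p`-cycles `t ↦ t + 1` of an element of a transitive group. -/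
structure Setup (p : ℕ) (G Ω : Type*) [Group G] [MulAction G Ω] where
  e : Fin 2 × ZMod p ≃ Ω
  x : G
  hx : ∀ s t, x • e (s, t) = e (s, t + 1)
  trans : MulAction.IsPretransitive G Ω
  /-- the two cycles do not form a system of imprimitivity -/
  mix : ∃ g : G, ∃ s t t', (e.symm (g • e (s, t))).1 ≠ (e.symm (g • e (s, t'))).1

variable {G Ω : Type*} [Group G] [MulAction G Ω] [Fintype Ω] [DecidableEq Ω]

/-- Invariance under the group. -/
def Inv (G : Type*) {Ω : Type*} [Group G] [MulAction G Ω] (Φ : Ω → Ω → ℚ) : Prop :=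
  ∀ (g : G) (c d : Ω), Φ (g • c) (g • d) = Φ c d

variable (S : Setup p G Ω)

/-- The entries between two cycles. -/
def blk (Φ : Ω → Ω → ℚ) (s s' : Fin 2) (t : ZMod p) : ℚ := Φ (S.e (s, 0)) (S.e (s', t))

/-- Sum of the entries between two cycles. -/
def bsum (Φ : Ω → Ω → ℚ) (s s' : Fin 2) : ℚ := ∑ t, blk S Φ s s' t

/-- The value on constant functions. -/
def kv (Φ : Ω → Ω → ℚ) : ℚ := bsum S Φ 0 0 + bsum S Φ 0 1

/-- The value on `u`. -/
def th (Φ : Ω → Ω → ℚ) : ℚ := bsum S Φ 0 0 - bsum S Φ 0 1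

/-- The diagonal blocks shifted by the value on `u`. -/
def gam (Φ : Ω → Ω → ℚ) (t : ZMod p) : ℚ :=
  blk S Φ 0 0 t + blk S Φ 1 1 t - th S Φ * if t = 0 then 1 else 0

/-- The second eigenvalue. -/
def lam (h : (ZMod p)ˣ) (Φ : Ω → Ω → ℚ) : ℂ := ft h (gam S Φ)

omit [Fintype Ω] [DecidableEq Ω] in
theorem shift {Φ : Ω → Ω → ℚ} (hΦ : Inv G Φ) (s s' : Fin 2) (i j : ZMod p) :
    Φ (S.e (s, i)) (S.e (s', j)) = blk S Φ s s' (j - i) := by
  have h1 : ∀ (n : ℕ) (s : Fin 2) (t : ZMod p), S.x ^ n • S.e (s, t) = S.e (s, t + n) := by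
    intro n
    induction n with
    | zero => simp
    | succ n ih => intro s t; rw [pow_succ', mul_smul, ih, S.hx, Nat.cast_succ, add_assoc]
  have h2 := hΦ (S.x ^ i.val) (S.e (s, 0)) (S.e (s', j - i))
  rw [h1, h1, ZMod.natCast_zmod_val, zero_add, sub_add_cancel] at h2
  exact h2

omit [DecidableEq Ω] in
theorem row_eq {Φ : Ω → Ω → ℚ} (hΦ : Inv G Φ) (c : Ω) :
    ∑ d, Φ c d = kv S Φ := by
  have := S.trans
  obtain ⟨g, rfl⟩ := MulAction.exists_smul_eq G (S.e (0, 0)) c
  rw [← Equiv.sum_comp (MulAction.toPerm g) (fun d => Φ (g • S.e (0, 0)) d)]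
  simp only [MulAction.toPerm_apply, hΦ g]
  rw [← Equiv.sum_comp S.e, Fintype.sum_prod_type, Fin.sum_univ_two]
  rfl

omit [DecidableEq Ω] in
theorem col_eq {Φ : Ω → Ω → ℚ} (hΦ : Inv G Φ) (d : Ω) :
    ∑ c, Φ c d = kv S Φ := by
  have := S.trans
  have hT : Inv G (fun a b => Φ b a) := fun g a b => hΦ g b a
  have hconst : ∀ b : Ω, ∑ c, Φ c b = ∑ c, Φ c d := by
    intro b
    rw [row_eq S hT b, row_eq S hT d]
  have hn : (Fintype.card Ω : ℚ) ≠ 0 := by
    have : Nonempty Ω := ⟨d⟩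
    exact_mod_cast Fintype.card_ne_zero
  refine mul_left_cancel₀ hn ?_
  calc (Fintype.card Ω : ℚ) * ∑ c, Φ c d = ∑ b, ∑ c, Φ c b := by
        simp [hconst]
    _ = ∑ c, ∑ b, Φ c b := Finset.sum_comm
    _ = (Fintype.card Ω : ℚ) * kv S Φ := by simp [row_eq S hΦ]

omit [DecidableEq Ω] in
theorem bsum_row {Φ : Ω → Ω → ℚ} (hΦ : Inv G Φ) (s : Fin 2) :
    bsum S Φ s 0 + bsum S Φ s 1 = kv S Φ := by
  have h := row_eq S hΦ (S.e (s, 0))
  rw [← Equiv.sum_comp S.e, Fintype.sum_prod_type, Fin.sum_univ_two] at h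
  exact h

omit [DecidableEq Ω] in
theorem bsum_col {Φ : Ω → Ω → ℚ} (hΦ : Inv G Φ) (s : Fin 2) :
    bsum S Φ 0 s + bsum S Φ 1 s = kv S Φ := by
  have h := col_eq S hΦ (S.e (s, 0))
  rw [← Equiv.sum_comp S.e, Fintype.sum_prod_type, Fin.sum_univ_two] at h
  simp only [shift S hΦ, zero_sub] at h
  rw [Fintype.sum_equiv (Equiv.neg (ZMod p)) (fun t => blk S Φ 0 s (-t)) (blk S Φ 0 s) (fun _ => rfl),
    Fintype.sum_equiv (Equiv.neg (ZMod p)) (fun t => blk S Φ 1 s (-t)) (blk S Φ 1 s) (fun _ => rfl)] at h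
  exact h

omit [DecidableEq Ω] in
theorem bsum_sym {Φ : Ω → Ω → ℚ} (hΦ : Inv G Φ) :
    bsum S Φ 1 0 = bsum S Φ 0 1 ∧ bsum S Φ 1 1 = bsum S Φ 0 0 := by
  have h1 := bsum_row S hΦ 0
  have h2 := bsum_col S hΦ 0
  have h3 := bsum_row S hΦ 1
  constructor <;> linarith

/-- `u` is `1` on the first cycle and `-1` on the second. -/
def uvec (a : Ω) : ℚ := if (S.e.symm a).1 = 0 then 1 else -1

omit [DecidableEq Ω] in
theorem mul_uvec {Φ : Ω → Ω → ℚ} (hΦ : Inv G Φ) (c : Ω) :
    ∑ d, Φ c d * uvec S d = th S Φ * uvec S c := by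
  obtain ⟨⟨s, i⟩, rfl⟩ := S.e.surjective c
  rw [← Equiv.sum_comp S.e, Fintype.sum_prod_type, Fin.sum_univ_two]
  simp only [shift S hΦ, uvec, Equiv.symm_apply_apply]
  have hsh : ∀ f : ZMod p → ℚ, ∑ t, f (t - i) = ∑ t, f t := fun f =>
    Equiv.sum_comp (Equiv.subRight i) f
  simp only [one_ne_zero, if_true, if_false, mul_one, mul_neg, Finset.sum_neg_distrib, hsh]
  obtain ⟨h1, h2⟩ := bsum_sym S hΦ
  fin_cases s <;> simp only [th, bsum] at * <;> simp <;> linarith

omit [DecidableEq Ω] in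
theorem mul_uvec_smul {Φ : Ω → Ω → ℚ} (hΦ : Inv G Φ) (g : G) (c : Ω) :
    ∑ d, Φ c d * uvec S (g • d) = th S Φ * uvec S (g • c) := by
  rw [← mul_uvec S hΦ (g • c)]
  rw [← Equiv.sum_comp (MulAction.toPerm g) (fun d => Φ (g • c) d * uvec S d)]
  simp only [MulAction.toPerm_apply, hΦ g]

/-- The `2 × 2` transform. -/
def mat (h : (ZMod p)ˣ) (Φ : Ω → Ω → ℚ) (s s' : Fin 2) : ℂ := ft h (blk S Φ s s')

omit [Fintype Ω] [DecidableEq Ω] in
theorem lam_eq (h : (ZMod p)ˣ) (Φ : Ω → Ω → ℚ) :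
    lam S h Φ = mat S h Φ 0 0 + mat S h Φ 1 1 - th S Φ := by
  unfold lam gam
  rw [ft_sub_smul h (fun t => blk S Φ 0 0 t + blk S Φ 1 1 t) (th S Φ)]
  simp [mat, ft, add_mul, Finset.sum_add_distrib]

omit [DecidableEq Ω] in
/-- A common eigenvector for the value on `u`. -/
theorem exists_vec (h : (ZMod p)ˣ) : ∃ v : Fin 2 → ℂ, v ≠ 0 ∧ ∀ Φ : Ω → Ω → ℚ, Inv G Φ →
    (∀ s, mat S h Φ s 0 * v 0 + mat S h Φ s 1 * v 1 = th S Φ * v s) ∧
    (∀ s, conj (mat S h Φ 0 s) * v 0 + conj (mat S h Φ 1 s) * v 1 = th S Φ * v s) := by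
  obtain ⟨g, s₀, t₀, t₁, hne⟩ := S.mix
  set w : Fin 2 → ZMod p → ℚ := fun s t => uvec S (g • S.e (s, t)) with hw
  set v : Fin 2 → ℂ := fun s => ∑ t, (w s t : ℂ) * z h (-t) with hv
  have main : ∀ Φ : Ω → Ω → ℚ, Inv G Φ → ∀ s,
      mat S h Φ s 0 * v 0 + mat S h Φ s 1 * v 1 = th S Φ * v s := by
    intro Φ hΦ s
    have key : ∀ s', mat S h Φ s s' * v s' =
        ∑ i, (((∑ j, Φ (S.e (s, i)) (S.e (s', j)) * w s' j : ℚ)) : ℂ) * z h (-i) := by
      intro s'
      calc mat S h Φ s s' * v s'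
          = ∑ j, ∑ t, (blk S Φ s s' t : ℂ) * (w s' j : ℂ) * (z h t * z h (-j)) := by
            simp only [mat, ft, hv, Finset.sum_mul, Finset.mul_sum]
            exact Finset.sum_congr rfl fun j _ => Finset.sum_congr rfl fun t _ => by ring
        _ = ∑ j, ∑ i, (blk S Φ s s' (j - i) : ℂ) * (w s' j : ℂ) * z h (-i) := by
            refine Finset.sum_congr rfl fun j _ => ?_
            refine Fintype.sum_equiv (Equiv.subLeft j) _ _ fun t => ?_
            rw [Equiv.subLeft_apply, sub_sub_cancel, neg_sub, sub_eq_add_neg t j, z_add]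
        _ = _ := by
            rw [Finset.sum_comm]
            simp only [Rat.cast_sum, Rat.cast_mul, Finset.sum_mul, shift S hΦ]
    rw [key 0, key 1, ← Finset.sum_add_distrib, hv, Finset.mul_sum]
    refine Finset.sum_congr rfl fun i _ => ?_
    rw [← add_mul, ← Rat.cast_add, ← mul_assoc, ← Rat.cast_mul]
    congr 2
    have := mul_uvec_smul S hΦ g (S.e (s, i))
    rw [← Equiv.sum_comp S.e, Fintype.sum_prod_type, Fin.sum_univ_two] at this
    exact this
  refine ⟨v, ?_, fun Φ hΦ => ⟨main Φ hΦ, fun s => ?_⟩⟩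
  · intro hv0
    have h1 : ft h (fun t => w s₀ (-t)) = 0 := by
      have := congrFun hv0 s₀
      simp only [hv, Pi.zero_apply] at this
      rw [← this, ft]
      exact Fintype.sum_equiv (Equiv.neg _) _ _ fun t => by simp
    have hc := const_of_ft h _ h1
    have h2 : w s₀ t₀ = w s₀ t₁ := by
      have a := hc (-t₀)
      have b := hc (-t₁)
      simp only [neg_neg] at a b
      rw [a, b]
    simp only [hw, uvec] at h2
    have hcases : ∀ r : Fin 2, r = 0 ∨ r = 1 := by decide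
    rcases hcases (S.e.symm (g • S.e (s₀, t₀))).1 with a | a <;>
      rcases hcases (S.e.symm (g • S.e (s₀, t₁))).1 with b | b <;>
      simp_all <;> norm_num at h2
  · have hT : Inv G (fun a b => Φ b a) := fun g a b => hΦ g b a
    have hm : ∀ s s', mat S h (fun a b => Φ b a) s s' = conj (mat S h Φ s' s) := by
      intro s s'
      have e : ∀ t, blk S (fun a b => Φ b a) s s' t = blk S Φ s' s (-t) := fun t => by
        show Φ (S.e (s', t)) (S.e (s, 0)) = _
        rw [shift S hΦ, zero_sub]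
      simp only [mat, ft, e, map_sum, map_mul, map_ratCast, ← z_neg]
      exact Fintype.sum_equiv (Equiv.neg _) _ _ fun t => by simp
    have hth : th S (fun a b => Φ b a) = th S Φ := by
      have e : ∀ s s', bsum S (fun a b => Φ b a) s s' = bsum S Φ s' s := by
        intro s s'
        refine Fintype.sum_equiv (Equiv.neg _) _ _ fun t => ?_
        show Φ (S.e (s', t)) (S.e (s, 0)) = _
        rw [shift S hΦ, zero_sub]; rfl
      simp only [th, e, (bsum_sym S hΦ).1]
    have := main _ hT s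
    rw [hm, hm, hth] at this
    exact this

end Cfsg.Agent.W2p
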