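import Cfsg.Agent.Lib.Lead.W2p.Basic

/-!
Multiplicativity of the three values, the eigenvalue identities and the norm identity.
-/

set_option autoImplicit false

noncomputable section

namespace Cfsg.Agent.W2p

open Finset ComplexConjugate

variable {p : ℕ} [Fact p.Prime]
variable {G Ω : Type*} [Group G] [MulAction G Ω] [Fintype Ω] [DecidableEq Ω]
variable (S : Setup p G Ω)

theorem ft_conv (h : (ZMod p)ˣ) (φ ψ : ZMod p → ℚ) :
    ft h (fun t => ∑ i, φ i * ψ (t - i)) = ft h φ * ft h ψ := by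
  simp only [ft, Rat.cast_sum, Rat.cast_mul, Finset.sum_mul]
  rw [Finset.sum_comm]
  refine Finset.sum_congr rfl fun i _ => ?_
  rw [Finset.mul_sum]
  refine Fintype.sum_equiv (Equiv.subRight i) _ _ fun t => ?_
  have : z h t = z h i * z h (t - i) := by rw [← z_add, add_sub_cancel]
  rw [Equiv.subRight_apply, this]
  ring

theorem ft_add (h : (ZMod p)ˣ) (φ ψ : ZMod p → ℚ) :
    ft h (fun t => φ t + ψ t) = ft h φ + ft h ψ := by
  simp [ft, add_mul, Finset.sum_add_distrib]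

theorem ft_sub (h : (ZMod p)ˣ) (φ ψ : ZMod p → ℚ) :
    ft h (fun t => φ t - ψ t) = ft h φ - ft h ψ := by
  simp [ft, sub_mul, Finset.sum_sub_distrib]

omit [DecidableEq Ω] in
/-- Product of two invariant matrices. -/
def mmul (Φ Ψ : Ω → Ω → ℚ) : Ω → Ω → ℚ := fun c d => ∑ b, Φ c b * Ψ b d

omit [DecidableEq Ω] in
theorem inv_mmul {Φ Ψ : Ω → Ω → ℚ} (hΦ : Inv G Φ) (hΨ : Inv G Ψ) : Inv G (mmul Φ Ψ) := by
  intro g c d
  unfold mmul
  rw [← Equiv.sum_comp (MulAction.toPerm g) (fun b => Φ (g • c) b * Ψ b (g • d))]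
  simp only [MulAction.toPerm_apply, hΦ g, hΨ g]

omit [DecidableEq Ω] in
theorem kv_mmul {Φ Ψ : Ω → Ω → ℚ} (hΦ : Inv G Φ) (hΨ : Inv G Ψ) :
    kv S (mmul Φ Ψ) = kv S Φ * kv S Ψ := by
  rw [← row_eq S (inv_mmul hΦ hΨ) (S.e (0, 0))]
  simp only [mmul]
  rw [Finset.sum_comm]
  simp only [← Finset.mul_sum, row_eq S hΨ, ← Finset.sum_mul, row_eq S hΦ]

omit [DecidableEq Ω] in
theorem th_mmul {Φ Ψ : Ω → Ω → ℚ} (hΦ : Inv G Φ) (hΨ : Inv G Ψ) :
    th S (mmul Φ Ψ) = th S Φ * th S Ψ := by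
  have h1 := mul_uvec S (inv_mmul hΦ hΨ) (S.e (0, 0))
  simp only [mmul, Finset.sum_mul] at h1
  rw [Finset.sum_comm] at h1
  simp only [mul_assoc, ← Finset.mul_sum, mul_uvec S hΨ] at h1
  simp only [mul_left_comm _ (th S Ψ), ← Finset.mul_sum, mul_uvec S hΦ] at h1
  have hu : uvec S (S.e (0, 0)) = 1 := by simp [uvec]
  rw [hu] at h1
  linarith [h1]

omit [DecidableEq Ω] in
theorem mat_mmul (h : (ZMod p)ˣ) {Φ Ψ : Ω → Ω → ℚ} (hΨ : Inv G Ψ) (s s' : Fin 2) :
    mat S h (mmul Φ Ψ) s s'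
      = mat S h Φ s 0 * mat S h Ψ 0 s' + mat S h Φ s 1 * mat S h Ψ 1 s' := by
  have e : blk S (mmul Φ Ψ) s s' = fun t =>
      (∑ i, blk S Φ s 0 i * blk S Ψ 0 s' (t - i)) + ∑ i, blk S Φ s 1 i * blk S Ψ 1 s' (t - i) := by
    funext t
    show ∑ b, Φ (S.e (s, 0)) b * Ψ b (S.e (s', t)) = _
    rw [← Equiv.sum_comp S.e, Fintype.sum_prod_type, Fin.sum_univ_two]
    simp only [shift S hΨ]
    rfl
  simp only [mat, e, ft_add, ft_conv]

omit [DecidableEq Ω] in
/-- The linear algebra of the transforms. -/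
theorem exists_frame (h : (ZMod p)ˣ) : ∃ (w : Fin 2 → ℂ) (n₀ n₁ : ℂ), w ≠ 0 ∧ n₀ + n₁ ≠ 0 ∧
    ∀ Φ : Ω → Ω → ℚ, Inv G Φ →
      (∀ s, mat S h Φ s 0 * w 0 + mat S h Φ s 1 * w 1 = lam S h Φ * w s) ∧
      (mat S h Φ 0 0 - mat S h Φ 1 1) * (n₀ + n₁) = ((th S Φ : ℂ) - lam S h Φ) * (n₀ - n₁) ∧
      conj (mat S h Φ 0 0) * mat S h Φ 0 0 + conj (mat S h Φ 0 1) * mat S h Φ 0 1
        + conj (mat S h Φ 1 0) * mat S h Φ 1 0 + conj (mat S h Φ 1 1) * mat S h Φ 1 1
        = (th S Φ : ℂ) * th S Φ + conj (lam S h Φ) * lam S h Φ := by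
  obtain ⟨v, hv, hE⟩ := exists_vec S h
  set n₀ := v 0 * conj (v 0) with hn₀
  set n₁ := v 1 * conj (v 1) with hn₁
  have hN : n₀ + n₁ ≠ 0 := by
    rw [hn₀, hn₁, Complex.mul_conj, Complex.mul_conj, ← Complex.ofReal_add]
    intro e
    have e' := Complex.ofReal_eq_zero.1 e
    have a := Complex.normSq_nonneg (v 0)
    have b := Complex.normSq_nonneg (v 1)
    have a0 : v 0 = 0 := Complex.normSq_eq_zero.1 (by linarith)
    have b0 : v 1 = 0 := Complex.normSq_eq_zero.1 (by linarith)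
    exact hv (funext fun s => by fin_cases s <;> simp [a0, b0])
  refine ⟨![-conj (v 1), conj (v 0)], n₀, n₁, ?_, hN, fun Φ hΦ => ?_⟩
  · intro e
    have e0 : -conj (v 1) = 0 := congrFun e 0
    have e1 : conj (v 0) = 0 := congrFun e 1
    exact hv (funext fun s => by fin_cases s <;> simp_all)
  obtain ⟨hv1, hv2⟩ := hE Φ hΦ
  have E1 := hv1 0
  have E2 := hv1 1
  have F0 := congrArg conj (hv2 0)
  have F1 := congrArg conj (hv2 1)
  simp only [map_add, map_mul, Complex.conj_conj, map_ratCast] at F0 F1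
  set a := mat S h Φ 0 0
  set b := mat S h Φ 0 1
  set c := mat S h Φ 1 0
  set d := mat S h Φ 1 1
  set θ : ℂ := ((th S Φ : ℚ) : ℂ) with hθ
  have hl : lam S h Φ = a + d - θ := lam_eq S h Φ
  refine ⟨fun s => ?_, ?_, ?_⟩
  · rw [hl]
    fin_cases s
    · show a * -conj (v 1) + b * conj (v 0) = (a + d - θ) * -conj (v 1)
      linear_combination F1
    · show c * -conj (v 1) + d * conj (v 0) = (a + d - θ) * conj (v 0)
      linear_combination -F0
  · rw [hl, hn₀, hn₁]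
    linear_combination (2 * conj (v 0)) * E1 - (2 * v 1) * F1
  · set N := n₀ + n₁ with hNdef
    set l := lam S h Φ
    have ha : a * N = θ * n₀ + l * n₁ := by
      rw [hl, hNdef, hn₀, hn₁]; linear_combination conj (v 0) * E1 - v 1 * F1
    have hd : d * N = θ * n₁ + l * n₀ := by
      rw [hl, hNdef, hn₀, hn₁]; linear_combination v 1 * F1 - conj (v 0) * E1
    have hb : b * N = (θ - l) * (v 0 * conj (v 1)) := by
      rw [hl, hNdef, hn₀, hn₁]; linear_combination v 0 * F1 + conj (v 1) * E1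
    have hc : c * N = (θ - l) * (v 1 * conj (v 0)) := by
      rw [hl, hNdef, hn₀, hn₁]; linear_combination v 1 * F0 + conj (v 0) * E2
    have hNr : conj N = N := by
      rw [hNdef, hn₀, hn₁]; simp only [map_add, map_mul, Complex.conj_conj]; ring
    have hθr : conj θ = θ := map_ratCast _ _
    have ha' := congrArg conj ha
    have hb' := congrArg conj hb
    have hc' := congrArg conj hc
    have hd' := congrArg conj hd
    simp only [map_add, map_sub, map_mul, Complex.conj_conj, hNr, hθr, hn₀, hn₁]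
      at ha' hb' hc' hd'
    refine mul_right_cancel₀ (mul_ne_zero hN hN) ?_
    calc (conj a * a + conj b * b + conj c * c + conj d * d) * (N * N)
        = (conj a * N) * (a * N) + (conj b * N) * (b * N) + (conj c * N) * (c * N)
          + (conj d * N) * (d * N) := by ring
      _ = (θ * θ + conj l * l) * (N * N) := by
          rw [ha, hb, hc, hd, ha', hb', hc', hd', hNdef, hn₀, hn₁]; ring

omit [DecidableEq Ω] in
theorem lam_mmul (h : (ZMod p)ˣ) {Φ Ψ : Ω → Ω → ℚ} (hΦ : Inv G Φ) (hΨ : Inv G Ψ) :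
    lam S h (mmul Φ Ψ) = lam S h Φ * lam S h Ψ := by
  obtain ⟨w, _, _, hw, _, hf⟩ := exists_frame S h
  have h1 := (hf _ hΦ).1
  have h2 := (hf _ hΨ).1
  have h3 := (hf _ (inv_mmul hΦ hΨ)).1
  obtain ⟨s, hs⟩ := Function.ne_iff.1 hw
  refine mul_right_cancel₀ hs ?_
  rw [← h3 s, mat_mmul S h hΨ, mat_mmul S h hΨ]
  linear_combination (lam S h Ψ) * h1 s + mat S h Φ s 0 * h2 0 + mat S h Φ s 1 * h2 1

theorem sum_corr (φ : ZMod p → ℚ) : ∑ u, ∑ t, φ t * φ (t + u) = (∑ t, φ t) * ∑ t, φ t := by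
  rw [Finset.sum_comm, Finset.sum_mul]
  refine Finset.sum_congr rfl fun t _ => ?_
  rw [← Finset.mul_sum]
  congr 1
  exact Equiv.sum_comp (Equiv.addLeft t) φ

omit [DecidableEq Ω] in
/-- The norm identity. -/
theorem norm_eq {Φ : Ω → Ω → ℚ} (hΦ : Inv G Φ) (c : Ω) :
    2 * ∑ d, Φ c d * Φ c d = th S Φ * th S Φ + ∑ t, gam S Φ t * gam S Φ t := by
  obtain ⟨_, _, _, _, _, hf⟩ := exists_frame S (1 : (ZMod p)ˣ)
  have hnorm := (hf Φ hΦ).2.2
  let cr : (ZMod p → ℚ) → ZMod p → ℚ := fun φ u => ∑ t, φ t * φ (t + u)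
  let C : ZMod p → ℚ := fun u =>
    cr (blk S Φ 0 0) u + cr (blk S Φ 0 1) u + cr (blk S Φ 1 0) u + cr (blk S Φ 1 1) u
      - cr (gam S Φ) u - th S Φ * th S Φ * if u = 0 then 1 else 0
  have h0 : ft 1 C = 0 := by
    show ft 1 (fun u => cr (blk S Φ 0 0) u + cr (blk S Φ 0 1) u + cr (blk S Φ 1 0) u
      + cr (blk S Φ 1 1) u - cr (gam S Φ) u - th S Φ * th S Φ * if u = 0 then 1 else 0) = 0
    rw [ft_sub_smul, ft_sub, ft_add, ft_add, ft_add]
    simp only [cr, ft_corr, Rat.cast_mul]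
    have hl : ft 1 (gam S Φ) = lam S 1 Φ := rfl
    rw [hl]
    simp only [mat] at hnorm
    linear_combination hnorm
  have hc := const_of_ft 1 C h0
  have hsum : ∑ u, C u = 0 := by
    simp only [C, cr, Finset.sum_sub_distrib, Finset.sum_add_distrib, sum_corr, ← Finset.mul_sum]
    rw [Finset.sum_ite_eq' univ (0 : ZMod p) fun _ => (1 : ℚ)]
    have hg : ∑ t, gam S Φ t = bsum S Φ 0 0 + bsum S Φ 1 1 - th S Φ := by
      simp only [gam, Finset.sum_sub_distrib, Finset.sum_add_distrib, ← Finset.mul_sum, bsum]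
      rw [Finset.sum_ite_eq' univ (0 : ZMod p) fun _ => (1 : ℚ)]
      simp
    obtain ⟨h10, h11⟩ := bsum_sym S hΦ
    rw [hg]
    simp only [mem_univ, if_true]
    change bsum S Φ 0 0 * bsum S Φ 0 0 + bsum S Φ 0 1 * bsum S Φ 0 1
      + bsum S Φ 1 0 * bsum S Φ 1 0 + bsum S Φ 1 1 * bsum S Φ 1 1
      - (bsum S Φ 0 0 + bsum S Φ 1 1 - th S Φ) * (bsum S Φ 0 0 + bsum S Φ 1 1 - th S Φ)
      - th S Φ * th S Φ * 1 = 0
    rw [h10, h11, th]; ring
  have hC0 : C 0 = 0 := by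
    rw [Finset.sum_congr rfl fun u _ => hc u, Finset.sum_const, Finset.card_univ, ZMod.card,
      nsmul_eq_mul] at hsum
    exact (mul_eq_zero.1 hsum).resolve_left (Nat.cast_ne_zero.2 (Fact.out : p.Prime).ne_zero)
  have hsq : Inv G (fun a b => Φ a b * Φ a b) := fun g a b => by simp [hΦ g a b]
  have hrow : ∀ s : Fin 2, ∑ d, Φ c d * Φ c d
      = (∑ t, blk S Φ s 0 t * blk S Φ s 0 t) + ∑ t, blk S Φ s 1 t * blk S Φ s 1 t := by
    intro s
    rw [row_eq S hsq c]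
    exact (bsum_row S hsq s).symm
  simp only [C, cr, add_zero, if_true, mul_one] at hC0
  linarith [hrow 0, hrow 1]

end Cfsg.Agent.W2p
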