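import Cfsg.Agent.Lib.Lead.W2p.Orbital

/-!
The counting argument for groups of degree `2p`.
-/

set_option autoImplicit false
set_option linter.unusedSectionVars false

noncomputable section

namespace Cfsg.Agent.W2p

open Finset ComplexConjugate

variable {p : ℕ} [Fact p.Prime]
variable {G Ω : Type*} [Group G] [MulAction G Ω] [Fintype Ω] [DecidableEq Ω]
variable (S : Setup p G Ω) (a₀ : Ω)

local notation "Q" => Sub (G := G) a₀

instance : Finite (ZMod p)ˣ := inferInstance

/-- The size of a suborbit. -/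
def size (q : Q) : ℕ := #{d : Ω | (Quotient.mk'' d : Q) = q}

theorem kv_orb (q : Q) : kv S (orb a₀ q) = size a₀ q := by
  classical
  rw [← row_eq S (inv_orb S a₀ q) a₀]
  simp only [orb, cls_base S a₀, size, Finset.sum_boole]

theorem orb_nonneg (q : Q) (c d : Ω) : 0 ≤ orb a₀ q c d := by
  classical
  unfold orb; split_ifs <;> norm_num

theorem gam_zero {q : Q} (hq : q ≠ base a₀) : gam S (orb a₀ q) 0 = -th S (orb a₀ q) := by
  classical
  simp [gam, blk, orb, cls_self S a₀, Ne.symm hq]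

theorem gam_ne_zero (q : Q) {t : ZMod p} (ht : t ≠ 0) :
    gam S (orb a₀ q) t = blk S (orb a₀ q) 0 0 t + blk S (orb a₀ q) 1 1 t := by
  simp [gam, ht]

theorem orb_cases (q : Q) (c d : Ω) : orb a₀ q c d = 0 ∨ orb a₀ q c d = 1 := by
  classical
  unfold orb; split_ifs <;> simp

theorem gam_cases (q : Q) {t : ZMod p} (ht : t ≠ 0) :
    gam S (orb a₀ q) t = 0 ∨ gam S (orb a₀ q) t = 1 ∨ gam S (orb a₀ q) t = 2 := by
  rw [gam_ne_zero S a₀ q ht]
  rcases orb_cases a₀ q (S.e (0, 0)) (S.e (0, t)) with h | h <;>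
    rcases orb_cases a₀ q (S.e (1, 0)) (S.e (1, t)) with h' | h' <;>
    norm_num [blk, h, h']

theorem sum_gam {t : ZMod p} (ht : t ≠ 0) :
    ∑ q ∈ univ.erase (base a₀), gam S (orb (G := G) a₀ q) t = 2 := by
  classical
  have h0 : gam S (orb (G := G) a₀ (base a₀)) t = 0 := by
    rw [gam_ne_zero S a₀ _ ht]
    have : ∀ s : Fin 2, blk S (orb (G := G) a₀ (base a₀)) s s t = 0 := by
      intro s
      unfold blk orb
      rw [if_neg]
      intro e
      exact ht ((Prod.ext_iff.1 (S.e.injective (cls_eq_base S a₀ e))).2).symm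
    rw [this, this, add_zero]
  rw [Finset.sum_erase (f := fun q => gam S (orb (G := G) a₀ q) t) univ h0]
  simp only [gam_ne_zero S a₀ _ ht, Finset.sum_add_distrib, blk, orb, Finset.sum_ite_eq, mem_univ,
    if_true]
  norm_num

theorem sum_th : ∑ q ∈ univ.erase (base a₀), th S (orb (G := G) a₀ q) = -1 := by
  classical
  have h1 : ∑ q, th S (orb (G := G) a₀ q) = 0 := by
    simp only [th, bsum, blk, Finset.sum_sub_distrib]
    rw [Finset.sum_comm, Finset.sum_comm (s := (univ : Finset Q))]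
    simp [orb]
  have h2 : th S (orb (G := G) a₀ (base a₀)) = 1 := by
    have e : ∀ c d : Ω, orb (G := G) a₀ (base a₀) c d = (1 : Matrix Ω Ω ℚ) c d := by
      intro c d
      rw [orb, Matrix.one_apply]
      by_cases h : c = d
      · subst h; rw [if_pos (cls_self S a₀ c), if_pos rfl]
      · rw [if_neg (fun e => h (cls_eq_base S a₀ e)), if_neg h]
    have e' : orb (G := G) a₀ (base a₀) = fun c d => (1 : Matrix Ω Ω ℚ) c d :=
      funext fun c => funext fun d => e c d
    rw [e', one_th]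
  rw [← Finset.add_sum_erase univ _ (mem_univ (base a₀)), h2] at h1
  linarith

theorem exists_int_th (q : Q) : ∃ n : ℤ, th S (orb a₀ q) = n := by
  classical
  have : ∀ s s', ∃ n : ℕ, bsum S (orb a₀ q) s s' = n := fun s s' => by
    refine ⟨#{t : ZMod p | cls (G := G) a₀ (S.e (s, 0)) (S.e (s', t)) = q}, ?_⟩
    simp only [bsum, blk, orb, Finset.sum_boole]
  obtain ⟨a, ha⟩ := this 0 0
  obtain ⟨b, hb⟩ := this 0 1
  exact ⟨(a : ℤ) - b, by rw [th, ha, hb]; push_cast; ring⟩

theorem th_add_kv (q : Q) (hq : q ≠ base a₀) :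
    th S (orb a₀ q) + kv S (orb a₀ q) = ∑ t ∈ univ.erase 0, gam S (orb a₀ q) t := by
  have h := Finset.add_sum_erase univ (gam S (orb a₀ q)) (mem_univ (0 : ZMod p))
  rw [gam_zero S a₀ hq] at h
  have h' : ∑ t, gam S (orb a₀ q) t = kv S (orb a₀ q) := by
    obtain ⟨-, h11⟩ := bsum_sym S (inv_orb S a₀ q)
    simp only [gam, Finset.sum_sub_distrib, Finset.sum_add_distrib, ← Finset.mul_sum]
    rw [Finset.sum_ite_eq' univ (0 : ZMod p) fun _ => (1 : ℚ)]
    simp only [mem_univ, if_true, mul_one]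
    show bsum S (orb a₀ q) 0 0 + bsum S (orb a₀ q) 1 1 - th S (orb a₀ q) = _
    rw [h11, kv, th]; ring
  rw [h'] at h
  linarith

/-- The set where the diagonal entries meet once. -/
def ones (q : Q) : Finset (ZMod p) := {t | t ≠ 0 ∧ gam S (orb a₀ q) t = 1}

theorem ones_eq (q : Q) (hq : q ≠ base a₀) :
    2 * th S (orb a₀ q) * (th S (orb a₀ q) + 1) = #(ones S a₀ q) := by
  classical
  have h := norm_eq S (inv_orb S a₀ q) a₀
  have hk : ∑ d, orb a₀ q a₀ d * orb a₀ q a₀ d = kv S (orb a₀ q) := by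
    rw [← row_eq S (inv_orb S a₀ q) a₀]
    refine Finset.sum_congr rfl fun d _ => ?_
    rcases orb_cases a₀ q a₀ d with e | e <;> simp [e]
  rw [hk, ← Finset.add_sum_erase univ (fun t => gam S (orb a₀ q) t * gam S (orb a₀ q) t)
    (mem_univ (0 : ZMod p)), gam_zero S a₀ hq] at h
  have hcard : (#(ones S a₀ q) : ℚ)
      = ∑ t ∈ univ.erase 0, (2 * gam S (orb a₀ q) t - gam S (orb a₀ q) t * gam S (orb a₀ q) t) := by
    rw [ones]
    rw [show (univ.filter fun t : ZMod p => t ≠ 0 ∧ gam S (orb a₀ q) t = 1)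
      = (univ.erase 0).filter (fun t => gam S (orb a₀ q) t = 1) by ext; simp]
    rw [← Finset.sum_boole]
    refine Finset.sum_congr rfl fun t ht => ?_
    rcases gam_cases S a₀ q (Finset.ne_of_mem_erase ht) with e | e | e <;> norm_num [e]
  rw [hcard, Finset.sum_sub_distrib, ← Finset.mul_sum, ← th_add_kv S a₀ q hq]
  linarith [h]

theorem ft_scale (h : (ZMod p)ˣ) (φ : ZMod p → ℚ) :
    ft h φ = ft 1 (fun t => φ (((h⁻¹ : (ZMod p)ˣ) : ZMod p) * t)) := by
  refine Fintype.sum_equiv (Units.mulLeft h) _ _ fun t => ?_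
  simp only [Units.mulLeft_apply, z, Units.val_mul, Units.val_one, one_mul]
  rw [← mul_assoc, Units.inv_mul, one_mul]

theorem gam_congr {h h' : (ZMod p)ˣ} {q : Q} (hq : q ≠ base a₀)
    (e : lam S h (orb a₀ q) = lam S h' (orb a₀ q)) (t : ZMod p) :
    gam S (orb a₀ q) (((h⁻¹ : (ZMod p)ˣ) : ZMod p) * t)
      = gam S (orb a₀ q) (((h'⁻¹ : (ZMod p)ˣ) : ZMod p) * t) := by
  simp only [lam] at e
  rw [ft_scale h, ft_scale h', ← sub_eq_zero, ← ft_sub] at e
  have := const_of_ft 1 _ e t
  simp only [mul_zero, sub_self] at this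
  linarith

/-- The multipliers fixing every diagonal sum. -/
def stab : Subgroup (ZMod p)ˣ where
  carrier := {h | ∀ (q : Q), q ≠ base a₀ → ∀ t, gam S (orb a₀ q) ((h : ZMod p) * t) = gam S (orb a₀ q) t}
  one_mem' := fun q _ t => by simp
  mul_mem' := fun {a b} ha hb q hq t => by
    rw [Units.val_mul, mul_assoc, ha q hq, hb q hq]
  inv_mem' := fun {a} ha q hq t => by
    rw [← ha q hq (((a⁻¹ : (ZMod p)ˣ) : ZMod p) * t), ← mul_assoc, Units.mul_inv, one_mul]

theorem exists_ne_lam_th (hsub : ∀ q : Q, q ≠ base a₀ → 2 ≤ size a₀ q) (h3 : 3 ≤ Fintype.card Q)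
    (h : (ZMod p)ˣ) {q : Q} (hq : q ≠ base a₀) :
    lam S h (orb a₀ q) = (th S (orb a₀ q) : ℂ) → ∀ t, t ≠ 0 →
      gam S (orb a₀ q) t = -2 * th S (orb a₀ q) := by
  intro e t ht
  have e' : ft h (fun t => gam S (orb a₀ q) t - th S (orb a₀ q) * if t = 0 then 1 else 0) = 0 := by
    rw [ft_sub_smul, ← e, lam, sub_self]
  have := const_of_ft h _ e' t
  simp only [ht, if_false, mul_zero, sub_zero, if_true, mul_one, gam_zero S a₀ hq] at this
  linarith

theorem exists_pos (hsub : ∀ q : Q, q ≠ base a₀ → 2 ≤ size a₀ q) (h3 : 3 ≤ Fintype.card Q)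
    : ∃ q : Q, q ≠ base a₀ ∧ th S (orb a₀ q) < 0 := by
  by_contra hne
  push Not at hne
  have := sum_th (G := G) S a₀
  have h0 : 0 ≤ ∑ q ∈ univ.erase (base a₀), th S (orb (G := G) a₀ q) :=
    Finset.sum_nonneg fun q hq => hne q (Finset.ne_of_mem_erase hq)
  linarith

theorem lam_ne_th (hsub : ∀ q : Q, q ≠ base a₀ → 2 ≤ size a₀ q) (h3 : 3 ≤ Fintype.card Q)
    (h : (ZMod p)ˣ) {q : Q} (hq : q ≠ base a₀) (hN : #(ones S a₀ q) = 0) :
    lam S h (orb a₀ q) ≠ (th S (orb a₀ q) : ℂ) := by
  intro e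
  have hc := exists_ne_lam_th S a₀ hsub h3 h hq e
  have hθ := ones_eq S a₀ q hq
  rw [hN, Nat.cast_zero] at hθ
  rcases mul_eq_zero.1 hθ with a | a
  · have ha : th S (orb a₀ q) = 0 := by linarith
    have hk := th_add_kv S a₀ q hq
    rw [Finset.sum_eq_zero fun t ht => by rw [hc t (Finset.ne_of_mem_erase ht), ha]; ring,
      ha, kv_orb S] at hk
    have h2 : (2 : ℚ) ≤ size a₀ q := by exact_mod_cast hsub q hq
    linarith
  · have ha : th S (orb a₀ q) = -1 := by linarith
    obtain ⟨l, -, hl⟩ := Finset.exists_mem_notMem_of_card_lt_card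
      (s := ({q, base a₀} : Finset Q)) (t := univ) (by
        rw [Finset.card_univ]; exact (Finset.card_le_two).trans_lt (by omega))
    simp only [mem_insert, mem_singleton, not_or] at hl
    have hz : ∀ t, t ≠ 0 → gam S (orb a₀ l) t = 0 := by
      intro t ht
      have hs := sum_gam (G := G) S a₀ ht
      rw [← Finset.add_sum_erase _ _ (Finset.mem_erase.2 ⟨hq, mem_univ q⟩), hc t ht, ha] at hs
      have hs' : ∑ r ∈ (univ.erase (base a₀)).erase q, gam S (orb (G := G) a₀ r) t = 0 := by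
        linarith
      refine (Finset.sum_eq_zero_iff_of_nonneg fun r _ => ?_).1 hs' l (by simp [hl.1, hl.2])
      rcases gam_cases S a₀ r ht with e | e | e <;> norm_num [e]
    have hk := th_add_kv S a₀ l hl.2
    rw [Finset.sum_eq_zero fun t ht => hz t (Finset.ne_of_mem_erase ht), kv_orb S] at hk
    have hθl := ones_eq S a₀ l hl.2
    have hNl : #(ones S a₀ l) = 0 := by
      rw [Finset.card_eq_zero, ones, Finset.filter_eq_empty_iff]
      rintro t - ⟨ht, e1⟩
      rw [hz t ht] at e1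
      norm_num at e1
    rw [hNl, Nat.cast_zero] at hθl
    have h2 : (2 : ℚ) ≤ size a₀ l := by exact_mod_cast hsub l hl.2
    rcases mul_eq_zero.1 hθl with b | b <;> linarith

theorem rank_bound [Fintype ((ZMod p)ˣ ⧸ stab S a₀)] (hsub : ∀ q : Q, q ≠ base a₀ → 2 ≤ size a₀ q) (h3 : 3 ≤ Fintype.card Q)
    : Fintype.card ((ZMod p)ˣ ⧸ stab S a₀) + 2 ≤ Fintype.card Q := by
  refine rank_ge S a₀ (fun c => c.out) ?_ ?_ ?_ ?_
  · intro c
    by_contra hne
    push Not at hne
    obtain ⟨t, ht⟩ : ∃ t : ZMod p, t ≠ 0 := ⟨1, one_ne_zero⟩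
    have hs := sum_gam (G := G) S a₀ ht
    have hle : ∀ q ∈ univ.erase (base a₀), gam S (orb (G := G) a₀ q) t ≤ 0 := by
      intro q hq
      have hq' := Finset.ne_of_mem_erase hq
      have e' : ft c.out
          (fun t => gam S (orb a₀ q) t - kv S (orb a₀ q) * if t = 0 then 1 else 0) = 0 := by
        rw [ft_sub_smul, ← hne q, lam, sub_self]
      have hc := const_of_ft _ _ e' t
      simp only [ht, if_false, mul_zero, sub_zero, if_true, mul_one, gam_zero S a₀ hq'] at hc
      have hnn : 0 ≤ th S (orb a₀ q) + kv S (orb a₀ q) := by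
        rw [th_add_kv S a₀ q hq']
        refine Finset.sum_nonneg fun u hu => ?_
        rcases gam_cases S a₀ q (Finset.ne_of_mem_erase hu) with e | e | e <;> norm_num [e]
      linarith
    have := Finset.sum_nonpos hle
    linarith
  · intro c
    by_contra hne
    push Not at hne
    obtain ⟨q, hq, hneg⟩ := exists_pos S a₀ hsub h3
    have hc := exists_ne_lam_th S a₀ hsub h3 c.out hq (hne q)
    obtain ⟨n, hn⟩ := exists_int_th S a₀ q
    have h1 := hc 1 one_ne_zero
    refine lam_ne_th S a₀ hsub h3 c.out hq ?_ (hne q)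
    rw [Finset.card_eq_zero, ones, Finset.filter_eq_empty_iff]
    rintro t - ⟨ht, e1⟩
    rw [hc t ht, hn] at e1
    have : (-2 : ℤ) * n = 1 := by exact_mod_cast e1
    omega
  · obtain ⟨q, hq, hneg⟩ := exists_pos S a₀ hsub h3
    refine ⟨q, fun e => ?_⟩
    have e' : kv S (orb a₀ q) = th S (orb a₀ q) := Rat.cast_injective e
    rw [kv_orb S] at e'
    have : (0 : ℚ) ≤ size a₀ q := Nat.cast_nonneg _
    linarith
  · intro c d hcd
    by_contra hne
    push Not at hne
    refine hcd ?_
    rw [← QuotientGroup.out_eq' c, ← QuotientGroup.out_eq' d]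
    refine QuotientGroup.eq.2 fun q hq t => ?_
    have := gam_congr S a₀ hq (hne q) ((d.out : ZMod p) * t)
    rw [← mul_assoc, ← mul_assoc, Units.inv_mul, one_mul, ← Units.val_mul] at this
    exact this

theorem ones_pos (hsub : ∀ q : Q, q ≠ base a₀ → 2 ≤ size a₀ q) (h3 : 3 ≤ Fintype.card Q)
    {q : Q} (hq : q ≠ base a₀) : 0 < #(ones S a₀ q) := by
  by_contra hN
  push Not at hN
  have hN0 : #(ones S a₀ q) = 0 := by omega
  obtain ⟨w, n₀, n₁, hw, hn, hf⟩ := exists_frame S (1 : (ZMod p)ˣ)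
  have hγ : ∀ t, t ≠ 0 → blk S (orb a₀ q) 0 0 t = blk S (orb a₀ q) 1 1 t := by
    intro t ht
    have hne : gam S (orb a₀ q) t ≠ 1 := by
      intro e
      have : t ∈ ones S a₀ q := by simp [ones, ht, e]
      exact absurd (Finset.card_pos.2 ⟨t, this⟩) (by omega)
    rw [gam_ne_zero S a₀ q ht] at hne
    rcases orb_cases a₀ q (S.e (0, 0)) (S.e (0, t)) with h | h <;>
      rcases orb_cases a₀ q (S.e (1, 0)) (S.e (1, t)) with h' | h' <;>
      simp_all [blk]
  have hdiag : ∀ r : Q, r ≠ base a₀ → ∀ s, blk S (orb a₀ r) s s 0 = 0 := by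
    intro r hr s
    classical
    simp [blk, orb, cls_self S a₀, Ne.symm hr]
  have hmat : mat S 1 (orb a₀ q) 0 0 = mat S 1 (orb a₀ q) 1 1 := by
    refine Finset.sum_congr rfl fun t _ => ?_
    rcases eq_or_ne t 0 with rfl | ht
    · rw [hdiag q hq, hdiag q hq]
    · rw [hγ t ht]
  have hnn : n₀ - n₁ = 0 := by
    have := (hf _ (inv_orb S a₀ q)).2.1
    rw [hmat, sub_self, zero_mul, eq_comm] at this
    exact (mul_eq_zero.1 this).resolve_left
      (sub_ne_zero.2 (lam_ne_th S a₀ hsub h3 1 hq hN0).symm)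
  have hall : ∀ r : Q, r ≠ base a₀ → ∀ t, t ≠ 0 →
      gam S (orb a₀ r) t = 0 ∨ gam S (orb a₀ r) t = 2 := by
    intro r hr t ht
    have := (hf _ (inv_orb S a₀ r)).2.1
    rw [hnn, mul_zero] at this
    have e := (mul_eq_zero.1 this).resolve_right hn
    simp only [mat] at e
    rw [← ft_sub] at e
    have hc := const_of_ft 1 _ e t
    simp only [hdiag r hr, sub_self] at hc
    rw [gam_ne_zero S a₀ r ht]
    rcases orb_cases a₀ r (S.e (0, 0)) (S.e (0, t)) with h | h <;>
      rcases orb_cases a₀ r (S.e (1, 0)) (S.e (1, t)) with h' | h' <;>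
      simp_all [blk] <;> norm_num
  have hex : ∀ r : {r : Q // r ≠ base a₀}, ∃ u : (ZMod p)ˣ, gam S (orb a₀ r.1) (u : ZMod p) = 2 := by
    intro ⟨r, hr⟩
    by_contra hne
    push Not at hne
    have hz : ∀ t, t ≠ 0 → gam S (orb a₀ r) t = 0 := fun t ht =>
      (hall r hr t ht).resolve_right (hne (Units.mk0 t ht))
    have hθl := ones_eq S a₀ r hr
    have hNl : #(ones S a₀ r) = 0 := by
      rw [Finset.card_eq_zero, ones, Finset.filter_eq_empty_iff]
      rintro t - ⟨ht, e1⟩
      rw [hz t ht] at e1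
      norm_num at e1
    rw [hNl, Nat.cast_zero] at hθl
    have hk := th_add_kv S a₀ r hr
    rw [Finset.sum_eq_zero fun t ht => hz t (Finset.ne_of_mem_erase ht), kv_orb S] at hk
    have h2 : (2 : ℚ) ≤ size a₀ r := by exact_mod_cast hsub r hr
    rcases mul_eq_zero.1 hθl with b | b <;> linarith
  choose u hu using hex
  have hinj : Function.Injective fun r => (QuotientGroup.mk (u r) : (ZMod p)ˣ ⧸ stab S a₀) := by
    intro r l e
    by_contra hrl
    have hmem := QuotientGroup.eq.1 e
    have h1 := hmem r.1 r.2 (u r : ZMod p)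
    rw [← Units.val_mul, mul_comm, mul_inv_cancel_left, hu r] at h1
    have h2 := sum_gam (G := G) S a₀ (Units.ne_zero (u l))
    have hle : gam S (orb a₀ r.1) (u l : ZMod p) + gam S (orb a₀ l.1) (u l : ZMod p) ≤ 2 := by
      rw [← h2, ← Finset.sum_pair (f := fun q => gam S (orb (G := G) a₀ q) (u l : ZMod p))
        (fun e => hrl (Subtype.ext e))]
      refine Finset.sum_le_sum_of_subset_of_nonneg ?_ fun x _ _ => ?_
      · intro x hx
        simp only [mem_insert, mem_singleton] at hx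
        rcases hx with rfl | rfl <;> simp [r.2, l.2]
      · rcases gam_cases S a₀ x (Units.ne_zero (u l)) with e | e | e <;> norm_num [e]
    rw [h1, hu l] at hle
    norm_num at hle
  letI : Fintype ((ZMod p)ˣ ⧸ stab S a₀) := Fintype.ofFinite _
  have h1 := Fintype.card_le_of_injective _ hinj
  rw [Fintype.card_subtype_compl, Fintype.card_subtype_eq] at h1
  have := rank_bound S a₀ hsub h3
  omega

include S in
set_option maxHeartbeats 1600000 in
/-- The main count. -/
theorem count (hsub : ∀ q : Q, q ≠ base a₀ → 2 ≤ size a₀ q) (h3 : 3 ≤ Fintype.card Q)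
    : Fintype.card Q = 3 ∧ ∃ a : ℕ, 0 < a ∧ p = 2 * a ^ 2 + 2 * a + 1 ∧
    ∀ q : Q, q ≠ base a₀ → size a₀ q = a * (2 * a + 1) ∨ size a₀ q = (a + 1) * (2 * a + 1) := by
  classical
  set E : Finset Q := univ.erase (base a₀) with hE
  have hEne : E.Nonempty := by
    rw [← Finset.card_pos, hE, Finset.card_erase_of_mem (mem_univ _), Finset.card_univ]; omega
  choose θ hθ using exists_int_th (G := G) S a₀
  letI : Fintype ((ZMod p)ˣ ⧸ stab S a₀) := Fintype.ofFinite _
  set r := Fintype.card ((ZMod p)ˣ ⧸ stab S a₀) with hr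
  set f := Fintype.card (stab S a₀) with hf'
  have hrf : (p : ℤ) = r * f + 1 := by
    have e := Subgroup.card_eq_card_quotient_mul_card_subgroup (stab S a₀)
    rw [Nat.card_eq_fintype_card, Nat.card_eq_fintype_card, Nat.card_eq_fintype_card,
      ZMod.card_units] at e
    have := (Fact.out : p.Prime).one_le
    rw [← hr, ← hf'] at e
    exact_mod_cast (show p = r * f + 1 by omega)
  have hfN : ∀ q ∈ E, f ≤ #(ones S a₀ q) := by
    intro q hq
    have hq' := Finset.ne_of_mem_erase hq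
    obtain ⟨t, ht⟩ := Finset.card_pos.1 (ones_pos S a₀ hsub h3 hq')
    simp only [ones, mem_filter, mem_univ, true_and] at ht
    rw [hf', ← Finset.card_univ]
    refine Finset.card_le_card_of_injOn (fun h => ((h.1 : (ZMod p)ˣ) : ZMod p) * t) ?_ ?_
    · intro h _
      simp only [ones, coe_filter, mem_univ, true_and, Set.mem_ofPred_eq]
      exact ⟨mul_ne_zero (Units.ne_zero _) ht.1, (h.2 q hq' t).trans ht.2⟩
    · intro h _ h' _ e
      exact Subtype.ext (Units.ext (mul_right_cancel₀ ht.1 e))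
  have hN : ∀ q ∈ E, 2 * θ q * (θ q + 1) = (#(ones S a₀ q) : ℤ) := by
    intro q hq
    have := ones_eq S a₀ q (Finset.ne_of_mem_erase hq)
    rw [hθ] at this
    exact_mod_cast this
  have hrank : r + 1 ≤ #E := by
    have := rank_bound S a₀ hsub h3
    rw [← hr] at this
    rw [hE, Finset.card_erase_of_mem (mem_univ _), Finset.card_univ]; omega
  have hsumθ : ∑ q ∈ E, θ q = -1 := by
    have := sum_th (G := G) S a₀
    simp only [hθ] at this
    exact_mod_cast this
  -- the smallest value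
  obtain ⟨q₁, hq₁, hmin⟩ := Finset.exists_min_image E
    (fun q => if 0 ≤ θ q then θ q else -θ q - 1) hEne
  set t : ℤ := if 0 ≤ θ q₁ then θ q₁ else -θ q₁ - 1 with ht
  have ht0 : 0 ≤ t := by rw [ht]; split_ifs with h <;> omega
  have hF : (f : ℤ) ≤ 2 * t * (t + 1) := by
    have a := hN q₁ hq₁
    have b : (f : ℤ) ≤ #(ones S a₀ q₁) := by exact_mod_cast hfN q₁ hq₁
    rw [ht]
    split_ifs with h <;> nlinarith
  have hf1 : 1 ≤ f := Fintype.card_pos
  have hstep : ∀ q ∈ E, 2 * t * (t + 1) ≤ (2 * t + 1) * |θ q| + θ q := by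
    intro q hq
    have := hmin q hq
    rcases le_or_gt 0 (θ q) with h | h
    · rw [if_pos h] at this
      rw [abs_of_nonneg h]; nlinarith
    · rw [if_neg (by omega)] at this
      rw [abs_of_neg h]; nlinarith
  have hT : 2 * t * (t + 1) * (r + 1) + 1 ≤ (2 * t + 1) * ∑ q ∈ E, |θ q| := by
    have h1 := Finset.sum_le_sum hstep
    rw [Finset.sum_const, nsmul_eq_mul, Finset.sum_add_distrib, ← Finset.mul_sum, hsumθ] at h1
    have h2 : ((r : ℤ) + 1) ≤ #E := by exact_mod_cast hrank
    nlinarith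
  -- Cauchy's inequality
  have hS : ∑ q ∈ E, (θ q : ℚ) * θ q / size a₀ q ≤ 1 := by
    have hkpos : ∀ q : Q, q ≠ base a₀ → (0 : ℚ) < size a₀ q := fun q hq => by
      have := hsub q hq
      exact_mod_cast (by omega : 0 < size a₀ q)
    let c : Q → ℚ := fun q => if q = base a₀ then 1 else (θ q : ℚ) / size a₀ q
    have hbase : size (G := G) a₀ (base a₀) = 1 := by
      rw [size, Finset.card_eq_one]
      refine ⟨a₀, ?_⟩
      ext d
      simp only [mem_filter, mem_univ, true_and, mem_singleton]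
      refine ⟨fun e => (cls_eq_base S a₀ ?_).symm, fun e => by rw [e]; rfl⟩
      rw [cls_base S a₀, e]
    have hth0 : th S (orb (G := G) a₀ (base a₀)) = 1 := by
      have h1 := sum_th (G := G) S a₀
      have h2 : ∑ q, th S (orb (G := G) a₀ q) = 0 := by
        simp only [th, bsum, blk, Finset.sum_sub_distrib]
        rw [Finset.sum_comm, Finset.sum_comm (s := (univ : Finset Q))]
        simp [orb]
      rw [← Finset.add_sum_erase univ _ (mem_univ (base a₀)), h1] at h2
      linarith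
    set S₁ := ∑ q ∈ E, (θ q : ℚ) * θ q / size a₀ q
    have hthY : th S (comb a₀ c) = 1 + S₁ := by
      rw [th_comb, ← Finset.add_sum_erase univ _ (mem_univ (base a₀)), hth0]
      simp only [c, if_pos, one_mul]
      congr 1
      refine Finset.sum_congr rfl fun q hq => ?_
      rw [if_neg (Finset.ne_of_mem_erase hq), hθ]; ring
    have hY : ∀ d, comb a₀ c a₀ d = c (Quotient.mk'' d) := by
      intro d
      simp [comb, orb, cls_base S a₀]
    have hsq : ∑ d, comb a₀ c a₀ d * comb a₀ c a₀ d = 1 + S₁ := by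
      simp only [hY]
      rw [← Finset.sum_fiberwise (univ : Finset Ω) (fun d => (Quotient.mk'' d : Q))]
      rw [← Finset.add_sum_erase univ _ (mem_univ (base a₀))]
      congr 1
      · rw [Finset.sum_congr rfl fun d hd => by rw [(Finset.mem_filter.1 hd).2],
          Finset.sum_const, nsmul_eq_mul]
        have : (#{d : Ω | (Quotient.mk'' d : Q) = base a₀} : ℚ) = 1 := by exact_mod_cast hbase
        rw [this]; simp [c]
      · refine Finset.sum_congr rfl fun q hq => ?_
        rw [Finset.sum_congr rfl fun d hd => by rw [(Finset.mem_filter.1 hd).2],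
          Finset.sum_const, nsmul_eq_mul]
        have hq' := Finset.ne_of_mem_erase hq
        have hk := (hkpos q hq').ne'
        show (size a₀ q : ℚ) * _ = _
        simp only [c, if_neg hq']
        field_simp
    have hn := norm_eq S (inv_comb S a₀ c) a₀
    rw [hsq, hthY] at hn
    have h0 : gam S (comb a₀ c) 0 = 2 - (1 + S₁) := by
      rw [gam, hthY]
      have : ∀ s : Fin 2, blk S (comb a₀ c) s s 0 = 1 := fun s => by
        simp [blk, comb, orb, cls_self S a₀, c]
      rw [this, this]; simp; ring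
    have hle : gam S (comb a₀ c) 0 * gam S (comb a₀ c) 0
        ≤ ∑ t, gam S (comb a₀ c) t * gam S (comb a₀ c) t :=
      Finset.single_le_sum (f := fun t => gam S (comb a₀ c) t * gam S (comb a₀ c) t)
        (fun t _ => mul_self_nonneg _) (mem_univ 0)
    rw [h0] at hle
    nlinarith
  have hsizes : ∑ q ∈ E, (size a₀ q : ℚ) = 2 * p - 1 := by
    have h1 : ∑ q : Q, (size a₀ q : ℚ) = 2 * p := by
      simp only [size]
      rw [← Nat.cast_sum, ← Finset.card_eq_sum_card_fiberwise fun d _ => mem_univ _,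
        Finset.card_univ, ← Fintype.card_congr S.e]
      simp
    rw [← Finset.add_sum_erase univ _ (mem_univ (base a₀))] at h1
    have : (size (G := G) a₀ (base a₀) : ℚ) = 1 := by
      have e := kv_orb S a₀ (base (G := G) a₀)
      rw [← e]
      have e' : orb (G := G) a₀ (base a₀) = fun c d => (1 : Matrix Ω Ω ℚ) c d := by
        funext c d
        rw [orb, Matrix.one_apply]
        by_cases h : c = d
        · subst h; rw [if_pos (cls_self S a₀ c), if_pos rfl]
        · rw [if_neg (fun e => h (cls_eq_base S a₀ e)), if_neg h]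
      rw [e', one_kv]
    rw [this] at h1
    linarith
  have hT2 : ((∑ q ∈ E, |θ q| : ℤ) : ℚ) ^ 2 ≤ 2 * p - 1 := by
    push_cast
    refine le_trans (Finset.sum_sq_le_sum_mul_sum_of_sq_le_mul E
      (f := fun q => (θ q : ℚ) * θ q / size a₀ q) (g := fun q => (size a₀ q : ℚ))
      (fun q _ => div_nonneg (mul_self_nonneg _) (Nat.cast_nonneg _))
      (fun q _ => Nat.cast_nonneg _) fun q hq => ?_) ?_
    · have hk : (size a₀ q : ℚ) ≠ 0 := by
        have := hsub q (Finset.ne_of_mem_erase hq)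
        exact_mod_cast (by omega : size a₀ q ≠ 0)
      rw [sq_abs]; exact le_of_eq (by field_simp)
    · rw [hsizes]
      have : (0 : ℚ) ≤ 2 * p - 1 := by
        rw [← hsizes]; exact Finset.sum_nonneg fun q _ => Nat.cast_nonneg _
      nlinarith
  have hT2' : (∑ q ∈ E, |θ q|) ^ 2 ≤ 2 * (p : ℤ) - 1 := by exact_mod_cast hT2
  have hr1 : r = 1 := by
    have hr0 : 1 ≤ r := Fintype.card_pos
    by_contra hne
    have hr2 : (2 : ℤ) ≤ r := by exact_mod_cast (by omega : 2 ≤ r)
    set T := ∑ q ∈ E, |θ q|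
    set F := 2 * t * (t + 1)
    have hF0 : 0 < F := by have : (1 : ℤ) ≤ f := by exact_mod_cast hf1
                           linarith
    have h1 : (F * (r + 1) + 1) ^ 2 ≤ ((2 * t + 1) * T) ^ 2 := by
      refine pow_le_pow_left₀ (by positivity) hT 2
    have h2 : ((2 * t + 1) * T) ^ 2 ≤ (2 * F + 1) * (2 * r * F + 1) := by
      have e : (2 * t + 1) ^ 2 = 2 * F + 1 := by simp only [F]; ring
      rw [mul_pow, e]
      refine mul_le_mul_of_nonneg_left ?_ (by positivity)
      have hmul : (r : ℤ) * f ≤ r * F := mul_le_mul_of_nonneg_left hF (by positivity)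
      rw [hrf] at hT2'
      linarith
    have h3' : (F * ((r : ℤ) - 1)) ^ 2 ≤ 0 := by nlinarith
    have : (0 : ℤ) < (F * ((r : ℤ) - 1)) ^ 2 := by
      have : (0 : ℤ) < (r : ℤ) - 1 := by linarith
      positivity
    linarith
  have htop : stab S a₀ = ⊤ := by
    rw [← Subgroup.index_eq_one, Subgroup.index, Nat.card_eq_fintype_card, ← hr, hr1]
  have hone : ∀ q ∈ E, ∀ u : ZMod p, u ≠ 0 → gam S (orb a₀ q) u = 1 := by
    intro q hq u hu
    have hq' := Finset.ne_of_mem_erase hq
    obtain ⟨t₀, ht₀⟩ := Finset.card_pos.1 (ones_pos S a₀ hsub h3 hq')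
    simp only [ones, mem_filter, mem_univ, true_and] at ht₀
    obtain ⟨ht1, ht2⟩ := ht₀
    have := (htop ▸ Subgroup.mem_top (Units.mk0 u hu * (Units.mk0 t₀ ht1)⁻¹) :
      Units.mk0 u hu * (Units.mk0 t₀ ht1)⁻¹ ∈ stab S a₀) q hq' t₀
    have e : ((Units.mk0 u hu * (Units.mk0 t₀ ht1)⁻¹ : (ZMod p)ˣ) : ZMod p) * t₀ = u := by
      simp [mul_assoc, inv_mul_cancel₀ ht1]
    rw [e] at this
    exact this.trans ht2
  have hcardE : #E = 2 := by
    have := sum_gam (G := G) S a₀ (one_ne_zero : (1 : ZMod p) ≠ 0)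
    rw [Finset.sum_congr rfl fun q hq => hone q hq 1 one_ne_zero, Finset.sum_const,
      nsmul_eq_mul, mul_one] at this
    exact_mod_cast this
  refine ⟨?_, ?_⟩
  · rw [hE, Finset.card_erase_of_mem (mem_univ _), Finset.card_univ] at hcardE; omega
  have hval : ∀ q ∈ E, 2 * θ q * (θ q + 1) = (p : ℤ) - 1 ∧ (size a₀ q : ℤ) = p - 1 - θ q := by
    intro q hq
    have hq' := Finset.ne_of_mem_erase hq
    constructor
    · rw [hN q hq]
      have : ones S a₀ q = univ.erase 0 := by
        ext u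
        simp only [ones, mem_filter, mem_univ, true_and, mem_erase, and_true]
        exact ⟨fun e => e.1, fun e => ⟨e, hone q hq u e⟩⟩
      rw [this, Finset.card_erase_of_mem (mem_univ _), Finset.card_univ, ZMod.card,
        Nat.cast_sub (Fact.out : p.Prime).one_le]
      simp
    · have := th_add_kv S a₀ q hq'
      rw [Finset.sum_congr rfl fun u hu => hone q hq u (Finset.ne_of_mem_erase hu),
        Finset.sum_const, nsmul_eq_mul, mul_one, Finset.card_erase_of_mem (mem_univ _),
        Finset.card_univ, ZMod.card, kv_orb S, hθ,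
        Nat.cast_sub (Fact.out : p.Prime).one_le] at this
      push_cast at this
      have : ((size a₀ q : ℤ) : ℚ) = (((p : ℤ) - 1 - θ q : ℤ) : ℚ) := by push_cast; linarith
      exact_mod_cast this
  have ha := (hval q₁ hq₁).1
  have hta : 2 * t * (t + 1) = (p : ℤ) - 1 := by
    rw [← ha, ht]; split_ifs <;> ring
  obtain ⟨a, hat⟩ := Int.eq_ofNat_of_zero_le ht0
  rw [hat] at hta
  have hp' : p = 2 * a ^ 2 + 2 * a + 1 := by
    have : (p : ℤ) = ((2 * a ^ 2 + 2 * a + 1 : ℕ) : ℤ) := by push_cast; linarith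
    exact_mod_cast this
  refine ⟨a, ?_, hp', fun q hq => ?_⟩
  · rcases Nat.eq_zero_or_pos a with rfl | h
    · simp at hp'; exact absurd hp' (Fact.out : p.Prime).ne_one
    · exact h
  obtain ⟨e1, e2⟩ := hval q (Finset.mem_erase.2 ⟨hq, mem_univ _⟩)
  have e3 : (θ q - a) * (θ q + a + 1) = 0 := by linarith
  rcases mul_eq_zero.1 e3 with e | e
  · left
    have : (size a₀ q : ℤ) = ((a * (2 * a + 1) : ℕ) : ℤ) := by
      rw [e2, hp']; push_cast; linarith
    exact_mod_cast this
  · right
    have : (size a₀ q : ℤ) = (((a + 1) * (2 * a + 1) : ℕ) : ℤ) := by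
      rw [e2, hp']; push_cast; linarith
    exact_mod_cast this

end Cfsg.Agent.W2p
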