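import Cfsg.Agent.Lib.Lead.W2p.Core

/-!
The orbital matrices, their values and the linear independence of the value homomorphisms.
-/

set_option autoImplicit false
set_option linter.unusedSectionVars false

noncomputable section

namespace Cfsg.Agent.W2p

open Finset ComplexConjugate

variable {p : ℕ} [Fact p.Prime]
variable {G Ω : Type*} [Group G] [MulAction G Ω] [Fintype Ω] [DecidableEq Ω]
variable (S : Setup p G Ω) (a₀ : Ω)

/-- Suborbits at `a₀`. -/
abbrev Sub : Type _ := MulAction.orbitRel.Quotient (MulAction.stabilizer G a₀) Ω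

instance : Fintype (Sub (G := G) a₀) := Fintype.ofFinite _

instance : DecidableEq (Sub (G := G) a₀) := Classical.decEq _

open Classical in
/-- An element carrying `a₀` to `c`. -/
def tr (c : Ω) : G := if hc : ∃ g : G, g • a₀ = c then hc.choose else 1

/-- The suborbit of a pair. -/
def cls (c d : Ω) : Sub (G := G) a₀ := Quotient.mk'' ((tr (G := G) a₀ c)⁻¹ • d)

omit [DecidableEq Ω] in
include S in
theorem tr_spec (c : Ω) : tr (G := G) a₀ c • a₀ = c := by
  have := S.trans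
  have h : ∃ g : G, g • a₀ = c := MulAction.exists_smul_eq G a₀ c
  rw [tr, dif_pos h]
  exact h.choose_spec

omit [DecidableEq Ω] in
theorem mk_stab_smul (g : G) (hg : g ∈ MulAction.stabilizer G a₀) (d : Ω) :
    (Quotient.mk'' (g • d) : Sub (G := G) a₀) = Quotient.mk'' d :=
  Quotient.sound' ⟨⟨g, hg⟩, rfl⟩

omit [DecidableEq Ω] in
include S in
theorem cls_smul (g : G) (c d : Ω) :
    cls (G := G) a₀ (g • c) (g • d) = cls a₀ c d := by
  unfold cls
  have hst : (tr (G := G) a₀ (g • c))⁻¹ * g * tr a₀ c ∈ MulAction.stabilizer G a₀ := by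
    rw [MulAction.mem_stabilizer_iff, mul_smul, mul_smul, tr_spec S a₀ c, inv_smul_eq_iff,
      tr_spec S a₀]
  rw [← mk_stab_smul a₀ _ hst ((tr (G := G) a₀ c)⁻¹ • d)]
  simp [smul_smul, mul_assoc]

omit [DecidableEq Ω] in
include S in
theorem cls_base (d : Ω) : cls (G := G) a₀ a₀ d = Quotient.mk'' d :=
  mk_stab_smul a₀ _ (inv_mem (MulAction.mem_stabilizer_iff.2 (tr_spec S a₀ a₀))) d

/-- The orbital matrix of a suborbit. -/
def orb (q : Sub (G := G) a₀) (c d : Ω) : ℚ := if cls a₀ c d = q then 1 else 0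

omit [DecidableEq Ω] in
include S in
theorem inv_orb (q : Sub (G := G) a₀) : Inv G (orb a₀ q) := by
  intro g c d
  classical
  rw [orb, orb, cls_smul S a₀]

/-- The suborbit of `a₀` itself. -/
def base : Sub (G := G) a₀ := Quotient.mk'' a₀

omit [DecidableEq Ω] in
include S in
theorem cls_self (c : Ω) : cls (G := G) a₀ c c = base a₀ := by
  show Quotient.mk'' ((tr (G := G) a₀ c)⁻¹ • c) = Quotient.mk'' a₀
  rw [inv_smul_eq_iff.2 (tr_spec S a₀ c).symm]

omit [DecidableEq Ω] in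
include S in
theorem cls_eq_base {c d : Ω} (h : cls (G := G) a₀ c d = base a₀) : c = d := by
  obtain ⟨s, hs⟩ := Quotient.exact' h
  have hs' : (s : G) • a₀ = (tr (G := G) a₀ c)⁻¹ • d := hs
  rw [MulAction.mem_stabilizer_iff.1 s.2] at hs'
  calc c = tr a₀ c • a₀ := (tr_spec S a₀ c).symm
    _ = d := smul_eq_iff_eq_inv_smul _ |>.2 hs'

omit [DecidableEq Ω] in
include S in
theorem decomp {Φ : Ω → Ω → ℚ} (hΦ : Inv G Φ) (c d : Ω) :
    Φ c d = ∑ q : Sub (G := G) a₀, Φ a₀ q.out * orb a₀ q c d := by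
  classical
  rw [Finset.sum_eq_single (cls (G := G) a₀ c d)]
  · rw [orb, if_pos rfl, mul_one]
    obtain ⟨s, hs⟩ := Quotient.exact' (Quotient.out_eq' (cls (G := G) a₀ c d))
    have hs' : (s : G) • ((tr (G := G) a₀ c)⁻¹ • d) = (cls (G := G) a₀ c d).out := hs
    have h2 := hΦ s a₀ ((tr (G := G) a₀ c)⁻¹ • d)
    rw [MulAction.mem_stabilizer_iff.1 s.2, hs'] at h2
    have h3 := hΦ (tr (G := G) a₀ c) a₀ ((tr (G := G) a₀ c)⁻¹ • d)
    rw [tr_spec S a₀, smul_inv_smul] at h3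
    rw [h3, h2]
  · intro q _ hq; rw [orb, if_neg (Ne.symm hq), mul_zero]
  · simp

/-- Linear combinations of orbital matrices. -/
def comb (f : Sub (G := G) a₀ → ℚ) (c d : Ω) : ℚ := ∑ q, f q * orb a₀ q c d

omit [DecidableEq Ω] in
include S in
theorem inv_comb (f : Sub (G := G) a₀ → ℚ) : Inv G (comb a₀ f) := by
  intro g c d
  simp only [comb, inv_orb S a₀ _ g c d]

omit [DecidableEq Ω] in
theorem bsum_comb (f : Sub (G := G) a₀ → ℚ) (s s' : Fin 2) :
    bsum S (comb a₀ f) s s' = ∑ q, f q * bsum S (orb a₀ q) s s' := by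
  simp only [bsum, blk, comb]
  rw [Finset.sum_comm]
  simp [Finset.mul_sum]

omit [DecidableEq Ω] in
theorem th_comb (f : Sub (G := G) a₀ → ℚ) :
    th S (comb a₀ f) = ∑ q, f q * th S (orb a₀ q) := by
  simp only [th, bsum_comb, ← Finset.sum_sub_distrib, mul_sub]

omit [DecidableEq Ω] in
theorem kv_comb (f : Sub (G := G) a₀ → ℚ) :
    kv S (comb a₀ f) = ∑ q, f q * kv S (orb a₀ q) := by
  simp only [kv, bsum_comb, ← Finset.sum_add_distrib, mul_add]

omit [DecidableEq Ω] in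
theorem gam_comb (f : Sub (G := G) a₀ → ℚ) (t : ZMod p) :
    gam S (comb a₀ f) t = ∑ q, f q * gam S (orb a₀ q) t := by
  simp only [gam, th_comb, Finset.sum_mul, ← Finset.sum_sub_distrib, blk, comb,
    ← Finset.sum_add_distrib]
  exact Finset.sum_congr rfl fun q _ => by ring

omit [DecidableEq Ω] in
theorem lam_comb (h : (ZMod p)ˣ) (f : Sub (G := G) a₀ → ℚ) :
    lam S h (comb a₀ f) = ∑ q, (f q : ℂ) * lam S h (orb a₀ q) := by
  simp only [lam, ft, gam_comb, Rat.cast_sum, Rat.cast_mul, Finset.sum_mul, Finset.mul_sum,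
    mul_assoc]
  exact Finset.sum_comm

omit [DecidableEq Ω] in
include S in
theorem eq_comb {Φ : Ω → Ω → ℚ} (hΦ : Inv G Φ) :
    Φ = comb a₀ (fun q : Sub (G := G) a₀ => Φ a₀ q.out) :=
  funext fun c => funext fun d => decomp S a₀ hΦ c d

/-- The invariant matrices as a submonoid. -/
def invMonoid : Submonoid (Matrix Ω Ω ℚ) where
  carrier := {Φ | Inv G (fun c d => Φ c d)}
  one_mem' := fun g c d => by simp [Matrix.one_apply, smul_left_cancel_iff]
  mul_mem' := fun {Φ Ψ} hΦ hΨ => by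
    exact fun g c d => by
      have := inv_mmul hΦ hΨ g c d
      simpa [Matrix.mul_apply, mmul] using this

omit [DecidableEq Ω] in
theorem one_kv [DecidableEq Ω] : kv S (fun c d : Ω => (1 : Matrix Ω Ω ℚ) c d) = 1 := by
  simp [kv, bsum, blk, Matrix.one_apply, S.e.injective.eq_iff, Finset.sum_ite_eq]

theorem one_th : th S (fun c d : Ω => (1 : Matrix Ω Ω ℚ) c d) = 1 := by
  simp [th, bsum, blk, Matrix.one_apply, S.e.injective.eq_iff, Finset.sum_ite_eq]

theorem one_lam (h : (ZMod p)ˣ) : lam S h (fun c d : Ω => (1 : Matrix Ω Ω ℚ) c d) = 1 := by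
  rw [lam_eq, one_th]
  simp [mat, ft, blk, Matrix.one_apply, S.e.injective.eq_iff, apply_ite (Rat.cast : ℚ → ℂ),
    Finset.sum_ite_eq, z_zero]

/-- `k` as a homomorphism. -/
def kvHom : invMonoid (G := G) (Ω := Ω) →* ℂ where
  toFun Φ := (kv S (fun c d => (Φ : Matrix Ω Ω ℚ) c d) : ℂ)
  map_one' := by rw [Submonoid.coe_one, one_kv]; norm_num
  map_mul' Φ Ψ := by
    rw [← Rat.cast_mul, ← kv_mmul S Φ.2 Ψ.2]; rfl

/-- `θ` as a homomorphism. -/
def thHom : invMonoid (G := G) (Ω := Ω) →* ℂ where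
  toFun Φ := (th S (fun c d => (Φ : Matrix Ω Ω ℚ) c d) : ℂ)
  map_one' := by rw [Submonoid.coe_one, one_th]; norm_num
  map_mul' Φ Ψ := by
    rw [← Rat.cast_mul, ← th_mmul S Φ.2 Ψ.2]; rfl

/-- `λ` as a homomorphism. -/
def lamHom (h : (ZMod p)ˣ) : invMonoid (G := G) (Ω := Ω) →* ℂ where
  toFun Φ := lam S h (fun c d => (Φ : Matrix Ω Ω ℚ) c d)
  map_one' := by rw [Submonoid.coe_one, one_lam]
  map_mul' Φ Ψ := by
    rw [← lam_mmul S h Φ.2 Ψ.2]; rfl

/-- Pairwise different values on the orbital matrices bound the rank from below. -/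
theorem rank_ge {ι : Type*} [Fintype ι] (hs : ι → (ZMod p)ˣ)
    (hkl : ∀ i, ∃ q : Sub (G := G) a₀, lam S (hs i) (orb a₀ q) ≠ (kv S (orb a₀ q) : ℂ))
    (htl : ∀ i, ∃ q : Sub (G := G) a₀, lam S (hs i) (orb a₀ q) ≠ (th S (orb a₀ q) : ℂ))
    (hkt : ∃ q : Sub (G := G) a₀, (kv S (orb a₀ q) : ℂ) ≠ (th S (orb a₀ q) : ℂ))
    (hll : ∀ i j, i ≠ j →
      ∃ q : Sub (G := G) a₀, lam S (hs i) (orb a₀ q) ≠ lam S (hs j) (orb a₀ q)) :
    Fintype.card ι + 2 ≤ Fintype.card (Sub (G := G) a₀) := by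
  let F : Bool ⊕ ι → (invMonoid (G := G) (Ω := Ω) →* ℂ) :=
    Sum.elim (fun b => if b then kvHom S else thHom S) (fun i => lamHom S (hs i))
  let v : Bool ⊕ ι → Sub (G := G) a₀ → ℂ :=
    Sum.elim (fun b q => if b then (kv S (orb a₀ q) : ℂ) else (th S (orb a₀ q) : ℂ))
      (fun i q => lam S (hs i) (orb a₀ q))
  let L : (Sub (G := G) a₀ → ℂ) →ₗ[ℂ] (invMonoid (G := G) (Ω := Ω) → ℂ) :=
    { toFun := fun f Φ => ∑ q, f q * ((Φ : Matrix Ω Ω ℚ) a₀ q.out : ℂ)
      map_add' := fun f g => by funext Φ; simp [add_mul, Finset.sum_add_distrib]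
      map_smul' := fun r f => by funext Φ; simp [Finset.mul_sum, mul_assoc] }
  have hLv : ∀ i, L (v i) = ⇑(F i) := by
    intro i
    funext Φ
    have e := eq_comb S a₀ (Φ := fun c d => (Φ : Matrix Ω Ω ℚ) c d) Φ.2
    rcases i with b | i
    · cases b
      · show _ = ((th S _ : ℚ) : ℂ)
        rw [e, th_comb, Rat.cast_sum]
        exact Finset.sum_congr rfl fun q _ => by simp [v, mul_comm]
      · show _ = ((kv S _ : ℚ) : ℂ)
        rw [e, kv_comb, Rat.cast_sum]
        exact Finset.sum_congr rfl fun q _ => by simp [v, mul_comm]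
    · show _ = lam S (hs i) _
      rw [e, lam_comb]
      exact Finset.sum_congr rfl fun q _ => by simp [v, mul_comm]
  have hmem : ∀ q : Sub (G := G) a₀,
      (Matrix.of (orb (G := G) a₀ q) : Matrix Ω Ω ℚ) ∈ invMonoid (G := G) (Ω := Ω) :=
    fun q => inv_orb S a₀ q
  have hinj : Function.Injective F := by
    have sep : ∀ i j, i ≠ j → ∃ q : Sub (G := G) a₀,
        F i ⟨_, hmem q⟩ ≠ F j ⟨_, hmem q⟩ := by
      rintro (b | i) (c | j) hne
      · cases b <;> cases c
        · exact absurd rfl hne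
        · obtain ⟨q, hq⟩ := hkt; exact ⟨q, fun e => hq e.symm⟩
        · obtain ⟨q, hq⟩ := hkt; exact ⟨q, hq⟩
        · exact absurd rfl hne
      · cases b
        · obtain ⟨q, hq⟩ := htl j; exact ⟨q, fun e => hq e.symm⟩
        · obtain ⟨q, hq⟩ := hkl j; exact ⟨q, fun e => hq e.symm⟩
      · cases c
        · obtain ⟨q, hq⟩ := htl i; exact ⟨q, hq⟩
        · obtain ⟨q, hq⟩ := hkl i; exact ⟨q, hq⟩
      · obtain ⟨q, hq⟩ := hll i j fun e => hne (congrArg Sum.inr e)
        exact ⟨q, hq⟩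
    intro i j e
    by_contra hne
    obtain ⟨q, hq⟩ := sep i j hne
    exact hq (by rw [e])
  have hli : LinearIndependent ℂ (fun i => ⇑(F i)) :=
    (linearIndependent_monoidHom (invMonoid (G := G) (Ω := Ω)) ℂ).comp F hinj
  have hv : LinearIndependent ℂ v := by
    refine LinearIndependent.of_comp L ?_
    have : ⇑L ∘ v = fun i => ⇑(F i) := funext hLv
    rw [this]; exact hli
  have h1 := hv.fintype_card_le_finrank
  rw [Module.finrank_pi, Fintype.card_sum, Fintype.card_bool] at h1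
  omega

end Cfsg.Agent.W2p
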